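import Cfsg.Agent.Lib.CoprimeCentral.Basic

/-!
Main consequence: if a coprime automorphism of prime order fixes `C_G(τ)` pointwise (`τ` an
involution), then any two fixed conjugates of `τ` are congruent modulo the core of the fixed subgroup.
-/

set_option autoImplicit false

namespace CfsgLib.CoprimeCentral

variable {G : Type*} [Group G] [Finite G] {α : MulAut G} {r : ℕ}

section Involution

variable (hr : r.Prime) (hαr : α ^ r = 1) (hrG : ¬ r ∣ Nat.card G)
  {τ : G} (hτ : orderOf τ = 2) (hfix : ∀ c ∈ Subgroup.centralizer ({τ} : Set G), α c = c)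
include hr hαr hrG hτ hfix

omit hτ in
/-- A conjugate of `τ` fixes only one coset of the fixed subgroup. -/
theorem eq_of_smul_eq {v : G} (hv : IsConj τ v) {x y : G ⧸ fixedSub α} (hx : v • x = x) (hy : v • y = y) :
    x = y := by
  obtain ⟨h, rfl⟩ := isConj_iff.1 hv
  have key : ∀ z : G ⧸ fixedSub α, (h * τ * h⁻¹) • z = z → z = (h : G ⧸ fixedSub α) := by
    intro z hz
    obtain ⟨g, rfl⟩ := QuotientGroup.mk_surjective z
    have h1 : (g⁻¹ * h) * τ * (g⁻¹ * h)⁻¹ ∈ fixedSub α := by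
      have h2 := QuotientGroup.eq.1 hz.symm
      have e : g⁻¹ * h * τ * (g⁻¹ * h)⁻¹ = g⁻¹ * (h * τ * h⁻¹ * g) := by group
      rwa [e]
    exact QuotientGroup.eq.2 (mem_fixedSub_of_conj_mem hr hαr hrG hfix h1)
  rw [key x hx, key y hy]

/-- Two conjugates of `τ` mapping the base coset to the same other coset fix a common coset. -/
theorem exists_common_base {v w : G} (hv : IsConj τ v) (hw : IsConj τ w)
    (heq : v • ((1 : G) : G ⧸ fixedSub α) = w • ((1 : G) : G ⧸ fixedSub α)) :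
    ∃ e : G ⧸ fixedSub α, v • e = e ∧ w • e = e := by
  have sq : ∀ u : G, IsConj τ u → u * u = 1 := by
    intro u hu
    obtain ⟨c, hc⟩ := isConj_iff.1 hu
    rw [← hc, show c * τ * c⁻¹ * (c * τ * c⁻¹) = c * (τ ^ 2) * c⁻¹ by rw [pow_two]; group, ← hτ,
      pow_orderOf_eq_one]
    group
  have hd : v * w ∈ fixedSub α := by
    have h1 : (v * w) • ((1 : G) : G ⧸ fixedSub α) = ((1 : G) : G ⧸ fixedSub α) := by
      rw [mul_smul, ← heq, ← mul_smul, sq v hv, one_smul]
    have h2 := QuotientGroup.eq.1 h1.symm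
    simpa using h2
  set N := Subgroup.normalizer ((Subgroup.zpowers (v * w)) : Set G) with hN
  have hNα : N.map α.toMonoidHom = N := by
    have hz : (Subgroup.zpowers (v * w)).map α.toMonoidHom = Subgroup.zpowers (v * w) := by
      rw [MonoidHom.map_zpowers]; exact congrArg _ (mem_fixedSub.1 hd)
    rw [hN, Subgroup.map_equiv_normalizer_eq, hz]
  have hodd := odd_relIndex hr hαr hrG hτ hfix hNα
  have hvN : v ∈ N := by
    have hvinv : v⁻¹ = v := inv_eq_of_mul_eq_one_right (sq v hv)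
    have hwinv : w⁻¹ = w := inv_eq_of_mul_eq_one_right (sq w hw)
    have hconj : v * (v * w) * v⁻¹ = (v * w)⁻¹ := by
      rw [mul_inv_rev, hvinv, hwinv, ← mul_assoc v v w, sq v hv, one_mul]
    rw [hN, Subgroup.mem_normalizer_iff]
    intro h
    constructor
    · intro hh
      obtain ⟨k, rfl⟩ := Subgroup.mem_zpowers_iff.1 hh
      exact Subgroup.mem_zpowers_iff.2 ⟨-k, by rw [← conj_zpow, hconj, inv_zpow']⟩
    · intro hh
      obtain ⟨k, hk⟩ := Subgroup.mem_zpowers_iff.1 hh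
      refine Subgroup.mem_zpowers_iff.2 ⟨-k, ?_⟩
      have h2 : h = v * (v * h * v⁻¹) * v⁻¹ := by
        rw [hvinv, show v * (v * h * v) * v = (v * v) * h * (v * v) by group, sq v hv]; group
      rw [h2, ← hk, ← conj_zpow, hconj, inv_zpow']
  let O := ↥N ⧸ (fixedSub α).subgroupOf N
  have hO : ¬ 2 ∣ Nat.card O := by
    have h2 : Nat.card O = (fixedSub α).relIndex N := rfl
    rw [h2]; exact fun h => Nat.not_even_iff_odd.2 hodd (even_iff_two_dvd.2 h)
  let σ : Equiv.Perm O := MulAction.toPerm (⟨v, hvN⟩ : ↥N)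
  have hσ : σ ^ 2 = 1 := by
    ext x
    have : (⟨v, hvN⟩ : ↥N) * ⟨v, hvN⟩ = 1 := Subtype.ext (sq v hv)
    simp [pow_two, σ, ← mul_smul, this]
  obtain ⟨z, hz⟩ := exists_fixed Nat.prime_two σ hσ hO
  obtain ⟨n, rfl⟩ := QuotientGroup.mk_surjective z
  have hz' := QuotientGroup.eq.1 (show (((⟨v, hvN⟩ : ↥N) * n : ↥N) : O) = (n : O) from hz)
  have hve : v • ((n : G) : G ⧸ fixedSub α) = ((n : G) : G ⧸ fixedSub α) :=
    QuotientGroup.eq.2 (by simpa [Subgroup.mem_subgroupOf] using hz')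
  refine ⟨((n : G) : G ⧸ fixedSub α), hve, ?_⟩
  have hnd : (n : G)⁻¹ * (v * w) * (n : G) ∈ fixedSub α :=
    (Subgroup.zpowers_le.2 hd : Subgroup.zpowers (v * w) ≤ fixedSub α)
      ((Subgroup.mem_normalizer_iff''.1 n.2 _).1 (Subgroup.mem_zpowers _))
  have hde : (v * w) • ((n : G) : G ⧸ fixedSub α) = ((n : G) : G ⧸ fixedSub α) := by
    have e : (n : G)⁻¹ * (v * w * (n : G)) ∈ fixedSub α := by rwa [← mul_assoc]
    exact (QuotientGroup.eq.2 e).symm
  calc w • ((n : G) : G ⧸ fixedSub α) = v • ((v * w) • ((n : G) : G ⧸ fixedSub α)) := by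
        rw [← mul_smul, ← mul_assoc, sq v hv, one_mul]
    _ = _ := by rw [hde, hve]

/-- Two conjugates of `τ` mapping a coset to the same coset fix a common coset. -/
theorem exists_common {v w : G} (hv : IsConj τ v) (hw : IsConj τ w) {x : G ⧸ fixedSub α}
    (heq : v • x = w • x) : ∃ e : G ⧸ fixedSub α, v • e = e ∧ w • e = e := by
  obtain ⟨a, rfl⟩ := QuotientGroup.mk_surjective x
  have hx : a • ((1 : G) : G ⧸ fixedSub α) = (a : G ⧸ fixedSub α) := by
    rw [MulAction.Quotient.smul_mk, smul_eq_mul, mul_one]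
  obtain ⟨e, he1, he2⟩ := exists_common_base hr hαr hrG hτ hfix
    (v := a⁻¹ * v * a) (w := a⁻¹ * w * a)
    (hv.trans (isConj_iff.2 ⟨a⁻¹, by group⟩)) (hw.trans (isConj_iff.2 ⟨a⁻¹, by group⟩))
    (by rw [mul_smul, mul_smul, hx, mul_smul, mul_smul, hx, heq])
  refine ⟨a • e, ?_, ?_⟩
  · rw [mul_smul, mul_smul] at he1
    exact inv_smul_eq_iff.1 he1
  · rw [mul_smul, mul_smul] at he2
    exact inv_smul_eq_iff.1 he2

/-- All conjugates of `τ` with the same fixed coset act in the same way on the cosets. -/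
theorem smul_eq_smul {u v : G} (hu : IsConj τ u) (hv : IsConj τ v) {e : G ⧸ fixedSub α}
    (hue : u • e = e) (hve : v • e = e) (x : G ⧸ fixedSub α) : u • x = v • x := by
  classical
  by_cases hxe : x = e
  · subst hxe; rw [hue, hve]
  let Y := {y : G ⧸ fixedSub α // y ≠ x}
  have hτfix : τ • ((1 : G) : G ⧸ fixedSub α) = ((1 : G) : G ⧸ fixedSub α) := by
    refine (QuotientGroup.eq.2 ?_).symm
    simpa [mem_fixedSub] using hfix τ (Subgroup.mem_centralizer_iff.2 fun y hy => by
      rw [Set.mem_singleton_iff.1 hy])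
  have hex : ∀ y : Y, ∃ t : G, IsConj τ t ∧ t • y.1 = y.1 := by
    intro y
    obtain ⟨g, hg⟩ := QuotientGroup.mk_surjective y.1
    refine ⟨g * τ * g⁻¹, isConj_iff.2 ⟨g, rfl⟩, ?_⟩
    have : y.1 = g • ((1 : G) : G ⧸ fixedSub α) := by
      rw [← hg, MulAction.Quotient.smul_mk, smul_eq_mul, mul_one]
    rw [this, mul_smul, mul_smul, inv_smul_smul, hτfix]
  choose s hs1 hs2 using hex
  let f : Y → Y := fun y => ⟨s y • x, fun h =>
    y.2 (eq_of_smul_eq hr hαr hrG hfix (hs1 y) (hs2 y) h)⟩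
  have hinj : Function.Injective f := by
    intro y z hyz
    obtain ⟨c, hc1, hc2⟩ := exists_common hr hαr hrG hτ hfix (hs1 y) (hs1 z) (congrArg Subtype.val hyz)
    exact Subtype.ext ((eq_of_smul_eq hr hαr hrG hfix (hs1 y) (hs2 y) hc1).trans
      (eq_of_smul_eq hr hαr hrG hfix (hs1 z) hc2 (hs2 z)))
  have hsurj := Finite.surjective_of_injective hinj
  let e' : Y := ⟨e, fun h => hxe h.symm⟩
  have key : ∀ w : G, IsConj τ w → w • e = e → w • x = s e' • x := by
    intro w hw hwe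
    obtain ⟨y, hy⟩ := hsurj ⟨w • x, fun h => hxe (eq_of_smul_eq hr hαr hrG hfix hw h hwe)⟩
    have hy' : s y • x = w • x := congrArg Subtype.val hy
    obtain ⟨c, hc1, hc2⟩ := exists_common hr hαr hrG hτ hfix (hs1 y) hw hy'
    have : y = e' := Subtype.ext ((eq_of_smul_eq hr hαr hrG hfix (hs1 y) (hs2 y) hc1).trans
      (eq_of_smul_eq hr hαr hrG hfix hw hc2 hwe))
    rw [← this, hy']
  rw [key u hu hue, key v hv hve]

/-- Fixed conjugates of `τ` are congruent to `τ` modulo the core of the fixed subgroup. -/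
theorem mul_inv_mem_core {u : G} (hu : IsConj τ u) (huC : α u = u) :
    τ⁻¹ * u ∈ (fixedSub α).normalCore := by
  rw [Subgroup.normalCore_eq_ker, MonoidHom.mem_ker]
  have hτC : α τ = τ := hfix τ (Subgroup.mem_centralizer_iff.2 fun y hy => by
      rw [Set.mem_singleton_iff.1 hy])
  have base : ∀ t : G, α t = t → t • ((1 : G) : G ⧸ fixedSub α) = ((1 : G) : G ⧸ fixedSub α) := by
    intro t ht
    refine (QuotientGroup.eq.2 ?_).symm
    simpa [mem_fixedSub] using ht
  ext x
  rw [MulAction.toPermHom_apply, MulAction.toPerm_apply, Equiv.Perm.one_apply, mul_smul,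
    smul_eq_smul hr hαr hrG hτ hfix hu (IsConj.refl τ) (base u huC) (base τ hτC) x, inv_smul_smul]

end Involution

end CfsgLib.CoprimeCentral
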